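import Cfsg.Agent.PLengthProduct.Main
import Cfsg.Agent.DerivedBound.Main
import Cfsg.Agent.PCore.Descent
import Cfsg.Agent.CoprimeAction.Basic

/-!
Groups of `p`-length one, and the action on a section of prime order.
-/

set_option autoImplicit false
set_option linter.unusedSectionVars false
set_option linter.style.haveILetI false

namespace CfsgLib.PLengthComm

open CfsgLib.PLengthProduct CfsgLib.PLocalBasics
open scoped commutatorElement

universe u

variable {p : ℕ} [hp : Fact p.Prime]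

section Length

variable {X : Type u} [Group X] [Finite X]

theorem le_upperTwo_of_isPGroup {N : Subgroup X} (hn : N.Normal) (hN : IsPGroup p N) :
    N ≤ (Cfsg.upperPSeries p X 2).1 := by
  refine le_upper_succ hn fun x hx => ?_
  obtain ⟨k, hk⟩ := hN ⟨x, hx⟩
  refine ⟨p ^ k, ?_, fun h => absurd h (by decide), fun _ => ⟨k, rfl⟩⟩
  have : x ^ p ^ k = 1 := congrArg Subtype.val hk
  rw [this]
  exact one_mem _

theorem pLength_of_normal_sylow {N : Subgroup X} [hn : N.Normal] (hN : IsPGroup p N) (hi : ¬ p ∣ N.index) :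
    Cfsg.PLengthLE p 1 X := by
  refine top_le_iff.1 (le_upper_succ (n := 2) inferInstance fun x _ => ?_)
  exact ⟨N.index, le_upperTwo_of_isPGroup hn hN (N.pow_index_mem x), fun _ => PCore.coprime_of_not_dvd hi,
    fun h => absurd even_two h⟩

theorem pLength_of_isPGroup (h : IsPGroup p X) : Cfsg.PLengthLE p 1 X :=
  pLength_of_normal_sylow (N := ⊤) (h.to_subgroup ⊤) (by rw [Subgroup.index_top]; exact hp.out.not_dvd_one)

/-- With trivial `p'`-core the second term of the series is the `p`-core. -/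
theorem upperTwo_eq (hcore : Cfsg.pPrimeCore p X = ⊥) : (Cfsg.upperPSeries p X 2).1 = Cfsg.pCore p X := by
  haveI := (Cfsg.upperPSeries p X 2).2
  refine le_antisymm (PCore.le_pCore inferInstance fun x => ?_)
    (le_upperTwo_of_isPGroup inferInstance (PCore.isPGroup_pCore p X))
  obtain ⟨m, hm, -, h⟩ := pow_mem_of_succ (n := 1) x.2
  obtain ⟨k, rfl⟩ := h (by decide)
  rw [upperPSeries_one, hcore, Subgroup.mem_bot] at hm
  exact ⟨k, Subtype.ext hm⟩

theorem pow_mem_pCore (hcore : Cfsg.pPrimeCore p X = ⊥) {x : X} (hx : x ∈ (Cfsg.upperPSeries p X 3).1) :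
    ∃ m : ℕ, m.Coprime p ∧ x ^ m ∈ Cfsg.pCore p X := by
  obtain ⟨m, hm, h, -⟩ := pow_mem_of_succ (n := 2) hx
  exact ⟨m, h even_two, upperTwo_eq hcore ▸ hm⟩

theorem le_upperThree (hcore : Cfsg.pPrimeCore p X = ⊥) {N : Subgroup X} (hn : N.Normal)
    (h : ∀ x ∈ N, ∃ m : ℕ, m.Coprime p ∧ x ^ m ∈ Cfsg.pCore p X) : N ≤ (Cfsg.upperPSeries p X 3).1 :=
  le_upper_succ (n := 2) hn fun x hx => by
    obtain ⟨m, hm, hx'⟩ := h x hx
    exact ⟨m, (upperTwo_eq hcore).symm ▸ hx', fun _ => hm, fun h => absurd even_two h⟩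

/-- Of `p`-length one with trivial `p'`-core: the `p`-core is a Sylow subgroup. -/
theorem not_dvd_index_pCore (hcore : Cfsg.pPrimeCore p X = ⊥) (h : Cfsg.PLengthLE p 1 X) :
    ¬ p ∣ (Cfsg.pCore p X).index := by
  intro hd
  rw [Subgroup.index_eq_card] at hd
  obtain ⟨y, hy⟩ := exists_prime_orderOf_dvd_card' p hd
  obtain ⟨g, rfl⟩ := QuotientGroup.mk'_surjective _ y
  obtain ⟨m, hm, hg⟩ := pow_mem_pCore hcore (show g ∈ (Cfsg.upperPSeries p X 3).1 from by
    rw [show (Cfsg.upperPSeries p X 3).1 = ⊤ from h]; trivial)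
  have h1 : orderOf (QuotientGroup.mk' (Cfsg.pCore p X) g) ∣ m := orderOf_dvd_of_pow_eq_one (by
    rw [← map_pow]; exact (QuotientGroup.eq_one_iff _).2 hg)
  rw [hy] at h1
  exact hp.out.ne_one (Nat.eq_one_of_dvd_coprimes hm h1 dvd_rfl)

theorem pLength_of_surjective {Y : Type u} [Group Y] [Finite Y] (h : Cfsg.PLengthLE p 1 X) (f : X →* Y)
    (hf : Function.Surjective f) : Cfsg.PLengthLE p 1 Y := by
  refine eq_top_iff.2 fun y _ => ?_
  obtain ⟨x, rfl⟩ := hf y
  exact DerivedBound.upperPSeries_le_comap f hf _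
    (show x ∈ (Cfsg.upperPSeries p X (2 * 1 + 1)).1 by
      rw [show (Cfsg.upperPSeries p X (2 * 1 + 1)).1 = ⊤ from h]; trivial)

theorem pLength_of_core (h : Cfsg.PLengthLE p 1 (X ⧸ Cfsg.pPrimeCore p X)) : Cfsg.PLengthLE p 1 X := by
  have := pLengthLE_add (p := p) (a := 0) (Cfsg.pPrimeCore p X) (le_of_eq upperPSeries_one.symm) h
  rwa [Nat.zero_add] at this

theorem upperPSeries_characteristic (n : ℕ) : (Cfsg.upperPSeries p X n).1.Characteristic :=
  Subgroup.characteristic_iff_le_comap.2 fun e =>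
    DerivedBound.upperPSeries_le_comap e.toMonoidHom (MulEquiv.surjective e) n

/-- If a quotient by a part of the `p`-core has `p`-length one and its `p'`-elements act faithfully, so does the
group. -/
theorem pLength_of_quotient (hcore : Cfsg.pPrimeCore p X = ⊥) (K : Subgroup X) [K.Normal]
    (hKV : K ≤ Cfsg.pCore p X) (h : Cfsg.PLengthLE p 1 (X ⧸ K))
    (hfaith : ∀ u ∈ (Cfsg.upperPSeries p X 3).1, (orderOf u).Coprime p →
      (∀ v ∈ Cfsg.pCore p X, u * v * u⁻¹ * v⁻¹ ∈ K) → u = 1) : Cfsg.PLengthLE p 1 X := by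
  set U := (Cfsg.pPrimeCore p (X ⧸ K)).comap (QuotientGroup.mk' K) with hU
  have hU3 : U ≤ (Cfsg.upperPSeries p X 3).1 := by
    refine le_upperThree hcore inferInstance fun x hx => ?_
    refine ⟨Nat.card (Cfsg.pPrimeCore p (X ⧸ K)), PCore.pPrimeCore_coprime p _, hKV ?_⟩
    rw [← QuotientGroup.eq_one_iff, ← QuotientGroup.mk'_apply, map_pow]
    exact orderOf_dvd_iff_pow_eq_one.1 (Subgroup.orderOf_dvd_natCard _ hx)
  have hUp : IsPGroup p U := by
    refine PCore.isPGroup_of_forall_coprime U fun u hu huo => hfaith u (hU3 hu) huo fun v hv => ?_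
    have h1 : QuotientGroup.mk' K (u * v * u⁻¹ * v⁻¹) ∈ (⊥ : Subgroup (X ⧸ K)) := by
      rw [← PCore.inf_eq_bot_of_isPGroup_of_coprime
        ((PCore.isPGroup_pCore p X).map (QuotientGroup.mk' K)) (PCore.pPrimeCore_coprime p (X ⧸ K))]
      refine ⟨⟨_, ?_, rfl⟩, ?_⟩
      · exact (Cfsg.pCore p X).mul_mem ((inferInstance : (Cfsg.pCore p X).Normal).conj_mem v hv u)
          ((Cfsg.pCore p X).inv_mem hv)
      · show u * v * u⁻¹ * v⁻¹ ∈ U
        rw [show u * v * u⁻¹ * v⁻¹ = u * (v * u⁻¹ * v⁻¹) by group]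
        exact U.mul_mem hu ((inferInstance : U.Normal).conj_mem _ (U.inv_mem hu) v)
    rw [Subgroup.mem_bot] at h1
    exact (QuotientGroup.eq_one_iff _).1 h1
  have hbot : Cfsg.pPrimeCore p (X ⧸ K) = ⊥ := by
    have h1 : IsPGroup p ↥(U.map (QuotientGroup.mk' K)) := hUp.map _
    rw [hU, Subgroup.map_comap_eq_self_of_surjective (QuotientGroup.mk'_surjective K)] at h1
    rw [← inf_idem (Cfsg.pPrimeCore p (X ⧸ K))]
    exact PCore.inf_eq_bot_of_isPGroup_of_coprime h1 (PCore.pPrimeCore_coprime p _)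
  refine pLength_of_normal_sylow (N := (Cfsg.pCore p (X ⧸ K)).comap (QuotientGroup.mk' K)) ?_ ?_
  · obtain ⟨a, ha⟩ := IsPGroup.iff_card.1 ((PCore.isPGroup_pCore p X).to_le hKV)
    obtain ⟨b, hb⟩ := IsPGroup.iff_card.1 (PCore.isPGroup_pCore p (X ⧸ K))
    exact IsPGroup.of_card (n := a + b) (by rw [PCore.card_comap_mk', ha, hb, pow_add])
  · rw [Subgroup.index_comap_of_surjective _ (QuotientGroup.mk'_surjective K)]
    exact not_dvd_index_pCore hbot h

end Length

section Action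

variable {G : Type u} [Group G] [Finite G]

/-- Elements normalizing a section of prime order act on it by commuting powers. -/
theorem commutator_mem_of_prime_section {q : ℕ} [hq : Fact q.Prime] {Y J : Subgroup G}
    (hYJ : Y ≤ Subgroup.normalizer (J : Set G)) (hidx : J.relIndex Y = q) {g h : G}
    (hg : g ∈ Subgroup.normalizer (Y : Set G) ⊓ Subgroup.normalizer (J : Set G))
    (hh : h ∈ Subgroup.normalizer (Y : Set G) ⊓ Subgroup.normalizer (J : Set G)) {a : G} (ha : a ∈ Y) :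
    ⁅⁅g, h⁆, a⁆ ∈ J := by
  haveI : (J.subgroupOf Y).Normal := Subgroup.normal_subgroupOf_of_le_normalizer hYJ
  haveI : IsCyclic (↥Y ⧸ J.subgroupOf Y) := isCyclic_of_prime_card (p := q) (by
    rw [← Subgroup.index_eq_card]; exact hidx)
  have hkey : ∀ (k : G) (hk : k ∈ Subgroup.normalizer (Y : Set G) ⊓ Subgroup.normalizer (J : Set G)),
      ∃ φ : ↥Y ⧸ J.subgroupOf Y →* ↥Y ⧸ J.subgroupOf Y, ∀ y : Y,
        φ y = ((⟨k * y * k⁻¹, (Subgroup.mem_normalizer_iff.1 hk.1 _).1 y.2⟩ : Y) : ↥Y ⧸ J.subgroupOf Y) := by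
    intro k hk
    let ψ : Y →* Y :=
      { toFun := fun y => ⟨k * y * k⁻¹, (Subgroup.mem_normalizer_iff.1 hk.1 _).1 y.2⟩
        map_one' := Subtype.ext (by simp)
        map_mul' := fun y z => Subtype.ext (by simp [mul_assoc]) }
    exact ⟨QuotientGroup.map _ _ ψ fun y hy => Subgroup.mem_subgroupOf.2
      ((Subgroup.mem_normalizer_iff.1 hk.2 _).1 (Subgroup.mem_subgroupOf.1 hy)), fun y => rfl⟩
  obtain ⟨φ, hφ⟩ := hkey g hg
  obtain ⟨ψ, hψ⟩ := hkey h hh
  have hcomm : ∀ z : ↥Y ⧸ J.subgroupOf Y, φ (ψ z) = ψ (φ z) := by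
    obtain ⟨m, hm⟩ := MonoidHom.map_cyclic φ
    obtain ⟨n, hn⟩ := MonoidHom.map_cyclic ψ
    intro z
    rw [hn z, hm, hm z, hn, ← zpow_mul, ← zpow_mul, mul_comm]
  set w := g⁻¹ * (h⁻¹ * a * h) * g with hw
  have hwY : w ∈ Y := by
    have h1 := (Subgroup.mem_normalizer_iff.1 (Subgroup.inv_mem _ hh.1) a).1 ha
    rw [inv_inv] at h1
    have h2 := (Subgroup.mem_normalizer_iff.1 (Subgroup.inv_mem _ hg.1) _).1 h1
    rwa [inv_inv] at h2
  have h1 := hcomm ((⟨w, hwY⟩ : Y) : ↥Y ⧸ J.subgroupOf Y)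
  rw [hψ, hφ, hφ, hψ] at h1
  have h2 := Subgroup.mem_subgroupOf.1 (QuotientGroup.eq_iff_div_mem.1 h1)
  simp only [Subgroup.coe_div] at h2
  have e : ⁅⁅g, h⁆, a⁆ = g * (h * w * h⁻¹) * g⁻¹ / (h * (g * w * g⁻¹) * h⁻¹) := by
    rw [hw, commutatorElement_def, commutatorElement_def, div_eq_mul_inv]
    group
  rw [e]
  exact h2

/-- A `p`-element centralizes a subgroup of order `p` it normalizes. -/
theorem mem_centralizer_of_card_prime {E : Subgroup G} (hE : Nat.card E = p) {y : G}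
    (hy : y ∈ Subgroup.normalizer (E : Set G)) {k : ℕ} (hk : y ^ p ^ k = 1) :
    y ∈ Subgroup.centralizer (E : Set G) := by
  rw [Subgroup.mem_centralizer_iff]
  intro e he
  haveI : IsCyclic E := isCyclic_of_prime_card hE
  let ψ : E →* E :=
    { toFun := fun z => ⟨y * z * y⁻¹, (Subgroup.mem_normalizer_iff.1 hy _).1 z.2⟩
      map_one' := Subtype.ext (by simp)
      map_mul' := fun a b => Subtype.ext (by simp [mul_assoc]) }
  obtain ⟨m, hm⟩ := MonoidHom.map_cyclic ψ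
  have hiter : ∀ (n : ℕ) (z : E), ((z ^ (m ^ n) : E) : G) = y ^ n * z * (y ^ n)⁻¹ := by
    intro n
    induction n with
    | zero => intro z; simp
    | succ n ih =>
      intro z
      have h1 : (y * (y ^ n * (z : G) * (y ^ n)⁻¹) * y⁻¹) = ((ψ (z ^ (m ^ n)) : E) : G) := by
        show _ = y * ((z ^ (m ^ n) : E) : G) * y⁻¹
        rw [ih]
      rw [pow_succ m n, zpow_mul, ← hm, ← h1, pow_succ' y n]
      group
  have h1 : ((⟨e, he⟩ : E) ^ (m ^ (p ^ k)) : E) = ⟨e, he⟩ := Subtype.ext (by rw [hiter, hk]; simp)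
  have h2 : (⟨e, he⟩ : E) ^ (m - 1) = 1 := by
    rw [← orderOf_dvd_iff_zpow_eq_one]
    have h3 : (orderOf (⟨e, he⟩ : E) : ℤ) ∣ m ^ (p ^ k) - 1 := by
      rw [orderOf_dvd_iff_zpow_eq_one, zpow_sub, zpow_one, h1, mul_inv_cancel]
    have h4 : (orderOf (⟨e, he⟩ : E) : ℤ) ∣ (p : ℤ) := Int.natCast_dvd_natCast.2 (by
      have := orderOf_dvd_natCard (⟨e, he⟩ : E)
      rwa [hE] at this)
    have h5 : (p : ℤ) ∣ m ^ (p ^ k) - m := by
      rw [← ZMod.intCast_zmod_eq_zero_iff_dvd]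
      push_cast
      rw [ZMod.pow_card_pow, sub_self]
    have h6 := dvd_sub h3 (h4.trans h5)
    rwa [show m ^ (p ^ k) - 1 - (m ^ (p ^ k) - m) = m - 1 by ring] at h6
  have h7 : ψ ⟨e, he⟩ = ⟨e, he⟩ := by
    rw [hm, show m = (m - 1) + 1 by ring, zpow_add, h2, one_mul, zpow_one]
  have h8 : y * e * y⁻¹ = e := congrArg Subtype.val h7
  calc e * y = y * e * y⁻¹ * y := by rw [h8]
    _ = y * e := by group

end Action

end CfsgLib.PLengthComm
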